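import Cfsg.Agent.Lib.Helper6.TCD.Fi23U6.SH
import Cfsg.Agent.Lib.Helper6.TCD.Fi23U6.SC
import Cfsg.Agent.Lib.Helper6.TCD.Fi23U6.NH
import Cfsg.Agent.Lib.Helper6.TCD.Fi23U6.NC
import Cfsg.Agent.Lib.Helper6.TCD.Fi23U6.WD
import Cfsg.Agent.Lib.Helper6.TCD.Fi23U6.WI
set_option autoImplicit false
namespace Cfsg.Agent.Lib.Helper6.TCD.Fi23U6
def n : Nat := 192
def ncol : Nat := 4
def nrw : Nat := 16
def nw : Nat := 16
def tmax : Nat := 768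
def INV : Nat := 12816
def N : Nat := 192
end Cfsg.Agent.Lib.Helper6.TCD.Fi23U6
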